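/-
Normal subgroups of Zassenhaus groups and of doubly transitive groups.
-/
import Cfsg.Agent.Lib.PermGp.ZassenhausEven.Kernel
import Cfsg.Agent.Lib.Basics.FrobeniusBasic

set_option autoImplicit false

namespace Cfsg.Agent.ZassNormal

open MulAction
open scoped Pointwise
open Cfsg.Agent.PermGp.ZEven

universe u v

variable {G : Type u} {Ω : Type v} [Group G] [MulAction G Ω]

theorem finite_of_faith [Finite Ω] (h : FaithfulSMul G Ω) : Finite G :=
  Finite.of_injective (fun g : G => fun x : Ω => g • x) fun _ _ e =>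
    FaithfulSMul.eq_of_smul_eq_smul (congrFun e)

theorem normal_transitive [h2 : Fact (IsMultiplyPretransitive G Ω 2)] [FaithfulSMul G Ω] (N : Subgroup G) [N.Normal]
    (hN : N ≠ ⊥) : IsPretransitive N Ω := by
  haveI : IsPreprimitive G Ω := isPreprimitive_of_is_two_pretransitive h2.out
  refine IsQuasiPreprimitive.isPretransitive_of_normal (G := G) fun h => hN ?_
  rw [Subgroup.eq_bot_iff_forall]
  intro n hn
  refine FaithfulSMul.eq_of_smul_eq_smul (α := Ω) fun p => ?_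
  rw [one_smul]
  exact Set.eq_univ_iff_forall.1 h p ⟨n, hn⟩

/-- A regular normal subgroup of a doubly transitive group is an elementary abelian group. -/
theorem regular_elementary [Finite Ω] [FaithfulSMul G Ω] (h2 : IsMultiplyPretransitive G Ω 2) (N : Subgroup G)
    [hn : N.Normal] (htr : IsPretransitive N Ω) (hreg : ∀ a : Ω, stabilizer N a = ⊥) [Nontrivial Ω] :
    (∀ x ∈ N, ∀ y ∈ N, x * y = y * x) ∧ ∃ p : ℕ, p.Prime ∧ (∀ x ∈ N, x ^ p = 1) ∧ IsPGroup p N ∧
      Nat.card N = Nat.card Ω := by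
  haveI := finite_of_faith (G := G) (Ω := Ω) inferInstance
  obtain ⟨a, b, hab⟩ := exists_pair_ne Ω
  have hsemi : ∀ {x : G}, x ∈ N → ∀ c : Ω, x • c = c → x = 1 := fun {x} hx c hc => by
    have : (⟨x, hx⟩ : N) ∈ stabilizer N c := mem_stabilizer_iff.2 hc
    rw [hreg, Subgroup.mem_bot] at this
    exact congrArg Subtype.val this
  have hconj : ∀ x ∈ N, x ≠ 1 → ∀ y ∈ N, y ≠ 1 → ∃ g : G, g * x * g⁻¹ = y := by
    intro x hx hx1 y hy hy1
    obtain ⟨g, g1, g2⟩ := is_two_pretransitive_iff.1 h2 (show a ≠ x • a from fun e => hx1 (hsemi hx a e.symm))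
      (show a ≠ y • a from fun e => hy1 (hsemi hy a e.symm))
    refine ⟨g, (inv_mul_eq_one.1 (hsemi (mul_mem (inv_mem (hn.conj_mem x hx g)) hy) a ?_))⟩
    rw [mul_smul, inv_smul_eq_iff, mul_smul, mul_smul, show g⁻¹ • a = a from inv_smul_eq_iff.2 g1.symm, g2]
  have hcard : Nat.card N = Nat.card Ω := by
    refine Nat.card_eq_of_bijective (fun x : N => x • a) ⟨fun x y e => ?_, fun c => exists_smul_eq N a c⟩
    exact (inv_mul_eq_one.1 (Subtype.ext (hsemi (y⁻¹ * x : N).2 a (by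
      show (y⁻¹ * x : N) • a = a
      rw [mul_smul, show x • a = y • a from e, inv_smul_smul])))).symm
  obtain ⟨p, hp, hpd⟩ := Nat.exists_prime_and_dvd (show Nat.card N ≠ 1 by
    rw [hcard]; exact Finite.one_lt_card.ne')
  haveI := Fact.mk hp
  obtain ⟨z, hz⟩ := exists_prime_orderOf_dvd_card' (G := N) p hpd
  have hz1 : (z : G) ≠ 1 := fun e => hp.ne_one (by rw [← hz, show z = 1 from Subtype.ext e, orderOf_one])
  have hexp : ∀ x ∈ N, x ^ p = 1 := by
    intro x hx
    by_cases hx1 : x = 1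
    · rw [hx1, one_pow]
    · obtain ⟨g, rfl⟩ := hconj z z.2 hz1 x hx hx1
      have hzp : z ^ p = 1 := by rw [← hz]; exact pow_orderOf_eq_one z
      rw [conj_pow, show (z : G) ^ p = 1 from congrArg Subtype.val hzp]
      group
  have hpg : IsPGroup p N := fun x => ⟨1, by rw [pow_one]; exact Subtype.ext (hexp x x.2)⟩
  haveI : Nontrivial N := by
    rw [← Finite.one_lt_card_iff_nontrivial, hcard]; exact Finite.one_lt_card
  haveI := hpg.center_nontrivial
  obtain ⟨⟨w, hw⟩, hw1⟩ := exists_ne (1 : Subgroup.center N)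
  have hw1' : (w : G) ≠ 1 := fun e => hw1 (Subtype.ext (Subtype.ext e))
  refine ⟨fun x hx y hy => ?_, p, hp, hexp, hpg, hcard⟩
  by_cases hx1 : x = 1
  · rw [hx1, one_mul, mul_one]
  · obtain ⟨g, rfl⟩ := hconj w w.2 hw1' x hx hx1
    have hy' : g⁻¹ * y * g ∈ N := by simpa using hn.conj_mem y hy g⁻¹
    have e : (g⁻¹ * y * g) * w = w * (g⁻¹ * y * g) := congrArg Subtype.val (Subgroup.mem_center_iff.1 hw ⟨_, hy'⟩)
    calc g * w * g⁻¹ * y = g * (w * (g⁻¹ * y * g)) * g⁻¹ := by group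
      _ = g * (g⁻¹ * y * g * w) * g⁻¹ := by rw [e]
      _ = y * (g * w * g⁻¹) := by group

variable [Finite G] [Fintype Ω] {a : Ω} {F : Subgroup G}

theorem exists_ne_fixed (hF : ZKer a F) (Z : ZGrp G Ω) {x : G} (hxa : x • a = a) (hx : x ∉ F) :
    ∃ c, c ≠ a ∧ x • c = c := by
  obtain ⟨b, hba, -⟩ := Z.exists_third a a
  obtain ⟨u, hu, hub⟩ := hF.exists_eq b (x • b) hba
    (fun e => hba (MulAction.injective x (e.trans hxa.symm)))
  set h := u⁻¹ * x with hh
  have hha : h • a = a := by rw [hh, mul_smul, hxa, inv_smul_eq_iff, hF.fix u hu]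
  have hhb : h • b = b := by rw [hh, mul_smul, ← hub, inv_smul_smul]
  have hh1 : h ≠ 1 := fun e => hx (by rw [inv_mul_eq_one] at e; exact e ▸ hu)
  let φ : F → F := fun v => ⟨(v : G) * (h * (v : G)⁻¹ * h⁻¹), mul_mem v.2 (hF.conj h hha _ (inv_mem v.2))⟩
  have hφ : Function.Injective φ := by
    intro v w e
    have e' : (v : G) * (h * (v : G)⁻¹ * h⁻¹) = w * (h * (w : G)⁻¹ * h⁻¹) := congrArg Subtype.val e
    by_contra hne
    refine hh1 (hF.fpf Z hba.symm hha hhb (u := (w : G)⁻¹ * v) (mul_mem (inv_mem w.2) v.2)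
      (fun e2 => hne (Subtype.ext (inv_mul_eq_one.1 e2).symm)) ?_)
    calc h * ((w : G)⁻¹ * v) * h⁻¹ = (w : G)⁻¹ * (w * (h * (w : G)⁻¹ * h⁻¹)) * (h * (v : G)⁻¹ * h⁻¹)⁻¹ := by group
      _ = (w : G)⁻¹ * (v * (h * (v : G)⁻¹ * h⁻¹)) * (h * (v : G)⁻¹ * h⁻¹)⁻¹ := by rw [e']
      _ = (w : G)⁻¹ * v := by group
  obtain ⟨v, hv⟩ := Finite.injective_iff_surjective.1 hφ ⟨u, hu⟩
  have hv' : (v : G) * (h * (v : G)⁻¹ * h⁻¹) = u := congrArg Subtype.val hv
  refine ⟨(v : G) • b, hF.ne_of_mem v.2 hba, ?_⟩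
  rw [show x = u * h by rw [hh, mul_inv_cancel_left], ← hv',
    show (v : G) * (h * (v : G)⁻¹ * h⁻¹) * h = v * h * (v : G)⁻¹ by group, mul_smul, inv_smul_smul, mul_smul, hhb]

/-- A normal subgroup of a point stabiliser contains the regular kernel or is contained in it. -/
theorem le_or_le (hF : ZKer a F) (Z : ZGrp G Ω) (L : Subgroup G) (hLa : ∀ x ∈ L, x • a = a)
    (hL : ∀ g : G, g • a = a → ∀ x ∈ L, g * x * g⁻¹ ∈ L) : L ≤ F ∨ F ≤ L := by
  refine or_iff_not_imp_left.2 fun h => ?_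
  obtain ⟨x, hxL, hxF⟩ := SetLike.not_le_iff_exists.1 h
  obtain ⟨c, hca, hxc⟩ := exists_ne_fixed hF Z (hLa x hxL) hxF
  have hx1 : x ≠ 1 := fun e => hxF (e ▸ one_mem F)
  let φ : F → F := fun v => ⟨x * v * x⁻¹ * (v : G)⁻¹, mul_mem (hF.conj x (hLa x hxL) _ v.2) (inv_mem v.2)⟩
  have hφ : Function.Injective φ := by
    intro v w e
    have e' : x * v * x⁻¹ * (v : G)⁻¹ = x * w * x⁻¹ * (w : G)⁻¹ := congrArg Subtype.val e
    by_contra hne
    refine hx1 (hF.fpf Z hca.symm (hLa x hxL) hxc (u := (w : G)⁻¹ * v) (mul_mem (inv_mem w.2) v.2)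
      (fun e2 => hne (Subtype.ext (inv_mul_eq_one.1 e2).symm)) ?_)
    calc x * ((w : G)⁻¹ * v) * x⁻¹ = (x * w * x⁻¹)⁻¹ * (x * v * x⁻¹ * (v : G)⁻¹) * v := by group
      _ = (x * w * x⁻¹)⁻¹ * (x * w * x⁻¹ * (w : G)⁻¹) * v := by rw [e']
      _ = (w : G)⁻¹ * v := by group
  intro u hu
  obtain ⟨v, hv⟩ := Finite.injective_iff_surjective.1 hφ ⟨u, hu⟩
  have hv' : x * v * x⁻¹ * (v : G)⁻¹ = u := congrArg Subtype.val hv
  rw [← hv', show x * v * x⁻¹ * (v : G)⁻¹ = x * (v * x⁻¹ * (v : G)⁻¹) by group]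
  exact mul_mem hxL (hL v (hF.fix v v.2) _ (inv_mem hxL))

omit [Finite G] in
/-- The conclusion for a non-trivial normal subgroup. -/
theorem normal_zassenhaus (hZ : Cfsg.IsZassenhausGroup G Ω) (N : Subgroup G) [hn : N.Normal] (hN : N ≠ ⊥) :
    Cfsg.IsZassenhausGroup N Ω := by
  classical
  have Z := zgrp_of_zassenhaus hZ
  haveI := Z.faith
  haveI := finite_of_faith (G := G) (Ω := Ω) Z.faith
  haveI : Fact (IsMultiplyPretransitive G Ω 2) := ⟨Z.two⟩
  haveI htr : IsPretransitive N Ω := normal_transitive N hN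
  obtain ⟨g₀, hg₀, p₀, q₀, hpq, -⟩ := Z.nontriv
  haveI : Nontrivial Ω := ⟨⟨p₀, q₀, hpq⟩⟩
  have hfaith : FaithfulSMul N Ω := ⟨fun {x y} h => Subtype.ext (FaithfulSMul.eq_of_smul_eq_smul (α := Ω) h)⟩
  have hkey : ∀ (a : Ω) (F : Subgroup G), ZKer a F → F ≤ N ∧ ∃ x ∈ N, x • a = a ∧ x ∉ F := by
    intro a F hF
    set L := N ⊓ stabilizer G a with hL
    have hLn : ∀ g : G, g • a = a → ∀ x ∈ L, g * x * g⁻¹ ∈ L := by
      rintro g hg x ⟨hxN, hxa⟩
      refine ⟨hn.conj_mem x hxN g, mem_stabilizer_iff.2 ?_⟩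
      rw [mul_smul, mul_smul, inv_smul_eq_iff.2 hg.symm, mem_stabilizer_iff.1 hxa, hg]
    have hnot : ¬ L ≤ F := by
      intro hle
      have hsm : ∀ (c d : Ω), c ≠ d → ∀ x ∈ N, x • c = c → x • d = d → x = 1 := by
        intro c d hcd x hx hxc hxd
        obtain ⟨k, hk⟩ := exists_smul_eq N c a
        have hxa : ((k : G) * x * (k : G)⁻¹) • a = a := by
          rw [← hk]; show ((k : G) * x * (k : G)⁻¹) • (k : G) • c = (k : G) • c
          rw [mul_smul, inv_smul_smul, mul_smul, hxc]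
        have hmem : (k : G) * x * (k : G)⁻¹ ∈ F := hle ⟨hn.conj_mem x hx k, mem_stabilizer_iff.2 hxa⟩
        refine conj_eq_one_iff.1 (hF.semi _ hmem ((k : G) • d) ?_ ?_)
        · rw [← hk]; exact fun e => hcd (MulAction.injective (k : G) e).symm
        · rw [mul_smul, inv_smul_smul, mul_smul, hxd]
      by_cases hbot : stabilizer N a = ⊥
      · refine (hZ.2.2.2.2 N hn htr).elim fun c hc => hc ?_
        rw [Subgroup.eq_bot_iff_forall]
        intro x hx
        obtain ⟨k, hk⟩ := exists_smul_eq N c a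
        have : k * x * k⁻¹ ∈ stabilizer N a := by
          rw [mem_stabilizer_iff, ← hk, mul_smul, inv_smul_smul, mul_smul, mem_stabilizer_iff.1 hx]
        rw [hbot, Subgroup.mem_bot] at this
        exact conj_eq_one_iff.1 this
      · set A := stabilizer N a with hA
        have hA' : Cfsg.IsFrobeniusComplement A := by
          refine ⟨hbot, fun htop => ?_, fun g hg => ?_⟩
          · obtain ⟨b, hb⟩ := exists_ne a
            obtain ⟨k, hk⟩ := exists_smul_eq N a b
            have : k ∈ A := htop ▸ Subgroup.mem_top k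
            exact hb (hk.symm.trans (mem_stabilizer_iff.1 this))
          · rw [eq_bot_iff]
            rintro x ⟨hx1, hx2⟩
            rw [Subgroup.mem_bot]
            refine Subtype.ext (hsm a (g • a) (fun e => hg (mem_stabilizer_iff.2 e.symm)) x x.2 (mem_stabilizer_iff.1 hx1) ?_)
            change x ∈ MulAut.conj g • A at hx2
            rw [Basics.mem_conj_smul, mem_stabilizer_iff, mul_smul, mul_smul, inv_smul_eq_iff] at hx2
            exact hx2
        obtain ⟨M, hM, hMn, hMc, hMcard⟩ := Basics.frobenius_kernel_exists hA'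
        have hMmem : ∀ x : N, x ∈ M ↔ x = 1 ∨ ∀ c : Ω, (x : G) • c ≠ c := by
          intro x
          rw [← SetLike.mem_coe, hM]
          show x = 1 ∨ (∀ g : N, x ∉ MulAut.conj g • A) ↔ _
          refine or_congr_right ⟨fun h c hc => ?_, fun h g hg => ?_⟩
          · obtain ⟨k, hk⟩ := exists_smul_eq N a c
            refine h k ?_
            rw [Basics.mem_conj_smul, mem_stabilizer_iff, mul_smul, mul_smul, hk, inv_smul_eq_iff, hk]
            exact hc
          · rw [Basics.mem_conj_smul, mem_stabilizer_iff, mul_smul, mul_smul, inv_smul_eq_iff] at hg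
            exact h _ hg
        let M' := M.map N.subtype
        haveI : M'.Normal := by
          refine ⟨?_⟩
          rintro _ ⟨x, hx, rfl⟩ g
          refine ⟨⟨g * x * g⁻¹, hn.conj_mem _ x.2 g⟩, ?_, rfl⟩
          rw [SetLike.mem_coe, hMmem] at hx ⊢
          rcases hx with rfl | hx
          · exact Or.inl (Subtype.ext (by simp))
          · refine Or.inr fun c hc => hx (g⁻¹ • c) ?_
            change (g * (x : G) * g⁻¹) • c = c at hc
            rw [mul_smul, mul_smul] at hc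
            exact eq_inv_smul_iff.2 hc
        have hsemi : ∀ c : Ω, stabilizer M' c = ⊥ := by
          intro c
          rw [Subgroup.eq_bot_iff_forall]
          rintro ⟨_, x, hx, rfl⟩ hc
          rcases (hMmem x).1 hx with rfl | hx'
          · rfl
          · exact absurd (mem_stabilizer_iff.1 hc) (hx' c)
        have htr' : IsPretransitive M' Ω := by
          refine normal_transitive M' fun e => hA'.2.1 ?_
          rw [Subgroup.map_eq_bot_iff_of_injective _ N.subtype_injective] at e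
          rw [← Subgroup.index_eq_one, ← hMcard, e, Subgroup.card_bot]
        exact (hZ.2.2.2.2 M' inferInstance htr').elim fun c hc => hc (hsemi c)
    obtain ⟨x, hxL, hxF⟩ := SetLike.not_le_iff_exists.1 hnot
    exact ⟨((le_or_le hF Z L (fun x hx => mem_stabilizer_iff.1 hx.2) hLn).resolve_left hnot).trans inf_le_left,
      x, hxL.1, mem_stabilizer_iff.1 hxL.2, hxF⟩
  have h2 : IsMultiplyPretransitive N Ω 2 := by
    rw [is_two_pretransitive_iff]
    intro a b c d hab hcd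
    obtain ⟨F, hF⟩ := exists_zker Z (a := c) (b := d) hcd
    obtain ⟨k, hk⟩ := exists_smul_eq N a c
    obtain ⟨u, hu, huy⟩ := hF.exists_eq (k • b) d (fun e => hab (MulAction.injective k (hk.trans e.symm)))
      hcd.symm
    refine ⟨⟨u, (hkey c F hF).1 hu⟩ * k, ?_, ?_⟩
    · rw [mul_smul, hk]; exact hF.fix u hu
    · rw [mul_smul]; exact huy
  refine ⟨hfaith, h2, fun g a b c h1 h2' h3 ha hb hc => Subtype.ext (Z.three g a b c h1 h2' h3 ha hb hc), ?_, ?_⟩
  · obtain ⟨F, hF⟩ := exists_zker Z hpq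
    obtain ⟨x, hxN, hxa, hxF⟩ := (hkey p₀ F hF).2
    obtain ⟨c, hc, hxc⟩ := exists_ne_fixed hF Z hxa hxF
    exact ⟨⟨x, hxN⟩, fun e => hxF (by rw [show x = 1 from congrArg Subtype.val e]; exact one_mem F),
      p₀, c, hc.symm, hxa, hxc⟩
  · intro M hM htrM
    by_contra hall
    push_neg at hall
    haveI := hM
    haveI := hfaith
    obtain ⟨hab, -⟩ := regular_elementary h2 M htrM hall
    -- every conjugate of `M` equals `M`
    set M' := M.map N.subtype with hM'
    have hmemM : ∀ {x : G}, x ∈ M' ↔ ∃ hx : x ∈ N, (⟨x, hx⟩ : N) ∈ M := fun {x} => by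
      refine ⟨?_, fun ⟨hx, h⟩ => ⟨_, h, rfl⟩⟩
      rintro ⟨y, hy, rfl⟩
      exact ⟨y.2, hy⟩
    have hsemiN : ∀ (x : N), (∀ m ∈ M, x * m = m * x) → ∀ c : Ω, x • c = c → x = 1 := by
      intro x hx c hc
      refine hfaith.eq_of_smul_eq_smul fun d => ?_
      obtain ⟨⟨k, hk⟩, hkc⟩ := exists_smul_eq M c d
      rw [one_smul, ← hkc]
      show x • k • c = k • c
      rw [← mul_smul, hx k hk, mul_smul, hc]
    have hcent : ∀ x : N, (∀ m ∈ M, x * m = m * x) → x ∈ M := by
      intro x hx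
      obtain ⟨⟨k, hk⟩, hkc⟩ := exists_smul_eq M p₀ (x • p₀)
      have hkx : k⁻¹ * x = 1 := hsemiN _ (fun m hm => by
        have h1 : Commute k m := hab k hk m hm
        have h2 : Commute x m := hx m hm
        exact (h1.inv_left.mul_left h2).eq) p₀ (by
        rw [mul_smul, inv_smul_eq_iff]; exact hkc.symm)
      rw [← inv_mul_eq_one.1 hkx]; exact hk
    haveI : M'.Normal := by
      refine ⟨fun x hx g => ?_⟩
      obtain ⟨hxN, hxM⟩ := hmemM.1 hx
      let φ : N ≃* N := MulAut.conjNormal g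
      set M₁ := M.map φ.toMonoidHom with hM₁
      haveI hM₁n : M₁.Normal := Subgroup.Normal.map inferInstance _ φ.surjective
      have hφ : ∀ y : N, ((φ y : N) : G) = g * y * g⁻¹ := fun y => MulAut.conjNormal_apply g y
      have hsm₁ : ∀ y ∈ M₁, ∀ c : Ω, y • c = c → y = 1 := by
        rintro _ ⟨y, hy, rfl⟩ c hc
        have h1 : (⟨y, hy⟩ : M) ∈ stabilizer M (g⁻¹ • c) := by
          rw [mem_stabilizer_iff]
          show (y : G) • g⁻¹ • c = g⁻¹ • c
          change ((φ y : N) : G) • c = c at hc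
          rw [hφ, mul_smul, mul_smul] at hc
          exact eq_inv_smul_iff.2 hc
        rw [hall, Subgroup.mem_bot] at h1
        rw [show y = 1 from congrArg Subtype.val h1, map_one]
      have hMM₁ : M₁ ⊓ M ≠ ⊥ := by
        intro hb
        have hle : M₁ ≤ M := fun y hy => hcent y fun m hm => by
          have : y * m * y⁻¹ * m⁻¹ ∈ M₁ ⊓ M := ⟨by
            rw [show y * m * y⁻¹ * m⁻¹ = y * (m * y⁻¹ * m⁻¹) by group]
            exact M₁.mul_mem hy (hM₁n.conj_mem _ (M₁.inv_mem hy) m),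
            M.mul_mem (hM.conj_mem _ hm y) (M.inv_mem hm)⟩
          rw [hb, Subgroup.mem_bot, mul_inv_eq_one, mul_inv_eq_iff_eq_mul] at this
          exact this
        rw [inf_eq_left.2 hle] at hb
        rw [hM₁, Subgroup.map_eq_bot_iff_of_injective (f := φ.toMonoidHom) _ φ.injective] at hb
        have htrb := htrM
        rw [hb] at htrb
        obtain ⟨⟨k, hk⟩, hkc⟩ := htrb.exists_smul_eq p₀ q₀
        rw [Subgroup.mem_bot] at hk
        subst hk
        exact hpq ((one_smul N p₀).symm.trans hkc)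
      haveI : Fact (IsMultiplyPretransitive N Ω 2) := ⟨h2⟩
      haveI hI : IsPretransitive (M₁ ⊓ M : Subgroup N) Ω := normal_transitive _ hMM₁
      have hy : φ ⟨x, hxN⟩ ∈ M₁ := ⟨_, hxM, rfl⟩
      obtain ⟨⟨k, hk1, hk2⟩, hkc⟩ := exists_smul_eq (M₁ ⊓ M : Subgroup N) p₀ (φ ⟨x, hxN⟩ • p₀)
      have e : k = φ ⟨x, hxN⟩ := (inv_mul_eq_one.1 (hsm₁ _ (mul_mem (inv_mem hk1) hy) p₀ (by
        rw [mul_smul, inv_smul_eq_iff]; exact hkc.symm)))
      refine hmemM.2 ⟨hn.conj_mem x hxN g, ?_⟩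
      have : φ ⟨x, hxN⟩ ∈ M := e ▸ hk2
      convert this using 1
      exact Subtype.ext (hφ ⟨x, hxN⟩).symm
    have htrM' : IsPretransitive M' Ω := ⟨fun c d => by
      obtain ⟨⟨k, hk⟩, hkc⟩ := exists_smul_eq M c d
      exact ⟨⟨k, k, hk, rfl⟩, hkc⟩⟩
    obtain ⟨c, hc⟩ := hZ.2.2.2.2 M' inferInstance htrM'
    refine hc ?_
    rw [Subgroup.eq_bot_iff_forall]
    rintro ⟨x, y, hy, rfl⟩ hxc
    have h1 : (⟨y, hy⟩ : M) ∈ stabilizer M c := mem_stabilizer_iff.2 (mem_stabilizer_iff.1 hxc)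
    rw [hall, Subgroup.mem_bot] at h1
    exact Subtype.ext (congrArg (fun m : M => ((m : N) : G)) h1)

end Cfsg.Agent.ZassNormal
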